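import Mathlib

/-!
# Initial forms are stable under small perturbations of a presentation with its syzygies
-/

set_option autoImplicit false
set_option linter.all false

universe u

namespace AlgzApproxLib

variable {T : Type u} [CommRing T] {M N : Type u} [AddCommGroup M] [Module T M] [AddCommGroup N] [Module T N]

theorem map_pow_smul_mem {I : Ideal T} (D : M →ₗ[T] N) {k : ℕ} (hD : ∀ a, D a ∈ I ^ k • (⊤ : Submodule T N))
    {j : ℕ} {a : M} (ha : a ∈ I ^ j • (⊤ : Submodule T M)) : D a ∈ I ^ (j + k) • (⊤ : Submodule T N) := by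
  have h := Submodule.mem_map_of_mem (f := D) ha
  rw [Submodule.map_smul''] at h
  rw [pow_add, Submodule.mul_smul]
  refine Submodule.smul_mono le_rfl ?_ h
  rintro _ ⟨x, -, rfl⟩
  exact hD x

theorem exists_artinRees [IsNoetherianRing T] [Module.Finite T N] (I : Ideal T) (f : M →ₗ[T] N) :
    ∃ c : ℕ, ∀ n : ℕ, ∀ a : M, f a ∈ I ^ n • (⊤ : Submodule T N) →
      ∃ a' ∈ I ^ (n - c) • (⊤ : Submodule T M), f a' = f a := by
  obtain ⟨c, hc⟩ := Ideal.exists_pow_inf_eq_pow_smul I (LinearMap.range f)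
  refine ⟨c, fun n a ha => ?_⟩
  by_cases hn : c ≤ n
  · have h : f a ∈ I ^ (n - c) • (I ^ c • (⊤ : Submodule T N) ⊓ LinearMap.range f) := by
      rw [← hc n hn]; exact ⟨ha, ⟨a, rfl⟩⟩
    have h' : f a ∈ I ^ (n - c) • LinearMap.range f := Submodule.smul_mono le_rfl inf_le_right h
    rw [← Submodule.map_top f, ← Submodule.map_smul''] at h'
    obtain ⟨a', ha', he⟩ := h'
    exact ⟨a', ha', he⟩
  · exact ⟨a, by rw [Nat.sub_eq_zero_of_le (le_of_not_ge hn)]; simp, rfl⟩

/-- If `S` spans the syzygies of `r` and `(r', S')` is a complex which is close enough, then `r'` and `r`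
have the same ideal of initial forms. -/
theorem exists_initial_eq [IsNoetherianRing T] (I : Ideal T) {L : Type u} [AddCommGroup L] [Module T L]
    [Module.Finite T M] (r : M →ₗ[T] T) (S : L →ₗ[T] M)
    (hex : ∀ a, r a = 0 → a ∈ LinearMap.range S) :
    ∃ M₀ : ℕ, ∀ k, M₀ ≤ k → ∀ (r' : M →ₗ[T] T) (S' : L →ₗ[T] M), (∀ b, r' (S' b) = 0) →
      (∀ a, r a - r' a ∈ I ^ k) → (∀ b, S b - S' b ∈ I ^ k • (⊤ : Submodule T M)) →
      ∀ n, ∀ y ∈ I ^ n, y ∈ LinearMap.range r ⊔ I ^ (n + 1) ↔ y ∈ LinearMap.range r' ⊔ I ^ (n + 1) := by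
  obtain ⟨c, hc⟩ := exists_artinRees (M := M) (N := T) I r
  obtain ⟨c', hc'⟩ := exists_artinRees (M := L) (N := M) I S
  refine ⟨c + c' + 1, fun k hk r' S' hzero hr hS n y hy => ?_⟩
  have hI : ∀ m, I ^ m • (⊤ : Submodule T T) = I ^ m := fun m => by rw [smul_eq_mul, Ideal.mul_top]
  have hmono : ∀ {a b : ℕ}, a ≤ b → I ^ b ≤ I ^ a := fun h => Ideal.pow_le_pow_right h
  have hD : ∀ {j : ℕ} {a : M}, a ∈ I ^ j • (⊤ : Submodule T M) → r a - r' a ∈ I ^ (j + k) := fun {j a} ha => by
    have := map_pow_smul_mem (I := I) (r - r') (k := k) (fun x => by rw [hI]; exact hr x) ha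
    rwa [hI] at this
  have hDS : ∀ {j : ℕ} {b : L}, b ∈ I ^ j • (⊤ : Submodule T L) →
      S b - S' b ∈ I ^ (j + k) • (⊤ : Submodule T M) := fun {j b} hb =>
    map_pow_smul_mem (I := I) (S - S') (k := k) hS hb
  constructor
  · intro h
    obtain ⟨_, ⟨a, rfl⟩, z, hz, rfl⟩ := Submodule.mem_sup.mp h
    have hra : r a ∈ I ^ n := by
      have := Ideal.sub_mem _ hy (hmono n.le_succ hz)
      simpa using this
    obtain ⟨a', ha', he⟩ := hc n a (by rw [hI]; exact hra)
    refine Submodule.mem_sup.mpr ⟨r' a', ⟨a', rfl⟩, (r a' - r' a') + z,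
      Ideal.add_mem _ (hmono (by omega) (hD ha')) hz, by rw [he]; ring⟩
  · intro h
    obtain ⟨_, ⟨a, rfl⟩, z, hz, rfl⟩ := Submodule.mem_sup.mp h
    have hra : r' a ∈ I ^ n := by
      have := Ideal.sub_mem _ hy (hmono n.le_succ hz)
      simpa using this
    have key : ∀ j, j ≤ n - c → ∃ a' : M, a' ∈ I ^ j • (⊤ : Submodule T M) ∧ r' a' = r' a := by
      intro j hj
      induction j with
      | zero => exact ⟨a, by simp, rfl⟩
      | succ j ih =>
        obtain ⟨b₀, hb₀, e⟩ := ih (by omega)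
        have hm : r b₀ ∈ I ^ (min n (j + k)) := by
          have h1 := hmono (Nat.min_le_left n (j + k)) (e ▸ hra : r' b₀ ∈ I ^ n)
          have h2 := hmono (Nat.min_le_right n (j + k)) (hD hb₀)
          have := Ideal.add_mem _ h2 h1
          simpa using this
        obtain ⟨a₁, ha₁, e₁⟩ := hc _ b₀ (by rw [hI]; exact hm)
        by_cases hjn : j + 1 + c ≤ n
        · obtain ⟨b, hb⟩ := hex (b₀ - a₁) (by rw [map_sub, e₁, sub_self])
          have hbj : S b ∈ I ^ j • (⊤ : Submodule T M) := by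
            rw [hb]
            exact Submodule.sub_mem _ hb₀
              (Submodule.smul_mono (hmono (by omega)) le_rfl ha₁)
          obtain ⟨b', hb', eb⟩ := hc' j b hbj
          refine ⟨a₁ + (S b' - S' b'), Submodule.add_mem _ (Submodule.smul_mono (hmono (by omega)) le_rfl ha₁)
            (Submodule.smul_mono (hmono (by omega)) le_rfl (hDS hb')), ?_⟩
          rw [eb, hb, ← e, map_add, map_sub, map_sub, hzero]
          ring
        · refine ⟨b₀, ?_, e⟩
          exact absurd hjn (by omega)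
    -- stop as soon as the error term is small
    obtain ⟨a', ha', e'⟩ := key (n - c) le_rfl
    refine Submodule.mem_sup.mpr ⟨r a', ⟨a', rfl⟩, (r' a' - r a') + z, Ideal.add_mem _ ?_ hz, by rw [e']; ring⟩
    have := hmono (show n + 1 ≤ n - c + k by omega) (hD ha')
    rw [← neg_sub]
    exact (Ideal.neg_mem_iff _).mpr this

end AlgzApproxLib
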