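import Groth.Agent.AlgzApproxLib.Point
import Groth.Agent.AlgzApproxLib.Perturb
import Groth.Agent.ApproxLib.EtaleHom
import Groth.Agent.ApproxLib.ColimFPAlg
import Groth.Agent.S0600
import Groth.Agent.S0599
import Groth.Agent.S0598

/-!
# Finite type approximations of complete local algebras with the same initial forms
-/

set_option autoImplicit false
set_option linter.all false

universe u

open IsLocalRing CategoryTheory

namespace AlgzApproxLib

/-- Membership in the powers of the maximal ideal of a completion. -/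
theorem mem_map_pow_iff_evalₐ {P : Type u} [CommRing P] {m : Ideal P} (hm : m.FG) (n : ℕ)
    (z : AdicCompletion m P) :
    z ∈ (m ^ n).map (algebraMap P (AdicCompletion m P)) ↔ AdicCompletion.evalₐ m n z = 0 := by
  rw [AdicRingLib.mem_map_pow_iff hm]
  have h : (m ^ n • ⊤ : Ideal P) ≤ m ^ n := le_of_eq (Ideal.mul_top _)
  rw [← AdicCompletion.factor_eval_eq_evalₐ m z h]
  have hinj : Function.Injective (Ideal.Quotient.factor h) := by
    rw [injective_iff_map_eq_zero]
    intro w hw
    obtain ⟨w, rfl⟩ := Ideal.Quotient.mk_surjective w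
    rw [Ideal.Quotient.factor_mk, Ideal.Quotient.eq_zero_iff_mem] at hw
    rw [Ideal.Quotient.eq_zero_iff_mem, smul_eq_mul, Ideal.mul_top]
    exact hw
  exact (map_eq_zero_iff _ hinj).symm

/-- The facts about completions of finitely generated algebras over a field used below. -/
theorem completion_facts (k : Type u) [Field k] {n : ℕ} (m : Ideal (MvPolynomial (Fin n) k)) [m.IsMaximal] :
    ∃ (_ : IsLocalRing (AdicCompletion m (MvPolynomial (Fin n) k))),
      IsNoetherianRing (AdicCompletion m (MvPolynomial (Fin n) k)) ∧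
      IsAdicComplete (maximalIdeal (AdicCompletion m (MvPolynomial (Fin n) k)))
        (AdicCompletion m (MvPolynomial (Fin n) k)) ∧
      maximalIdeal (AdicCompletion m (MvPolynomial (Fin n) k)) =
        m.map (algebraMap (MvPolynomial (Fin n) k) (AdicCompletion m (MvPolynomial (Fin n) k))) ∧
      Smoothing.IndSmooth (MvPolynomial (Fin n) k) (AdicCompletion m (MvPolynomial (Fin n) k)) := by
  have hk : CAlg.IsGRing k := by
    have : IsAdicComplete (IsLocalRing.maximalIdeal k) k := by
      rw [IsLocalRing.maximalIdeal_eq_bot]; infer_instance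
    exact Groth.Agent.S0598.result k
  have hG : CAlg.IsGRing (MvPolynomial (Fin n) k) := Groth.Agent.S0599.result k hk _
  let T := AdicCompletion m (MvPolynomial (Fin n) k)
  have hfg : m.FG := IsNoetherian.noetherian m
  have hN : IsNoetherianRing T := AdicRingLib.isNoetherianRing_adicCompletion m
  have hmax : (m.map (algebraMap _ T)).IsMaximal := AdicCompletion.isMaximal_map_of_le _ _ le_rfl hfg
  have hcpl : IsAdicComplete (m.map (algebraMap _ T)) T := AdicCompletion.isAdicComplete_self _ hfg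
  have hloc : IsLocalRing T := isLocalRing_of_isAdicComplete_maximal (m.map (algebraMap _ T))
  have hmT : IsLocalRing.maximalIdeal T = m.map (algebraMap _ T) := (IsLocalRing.eq_maximalIdeal hmax).symm
  exact ⟨hloc, hN, by rw [hmT]; exact hcpl, hmT,
    TransLib.indSmooth_of_isRegularHom (Groth.Agent.S0600.result _ hG m)⟩

theorem exists_presentation (k : Type u) [Field k] (R : Type u) [CommRing R] [Algebra k R] [IsLocalRing R]
    [IsNoetherianRing R] [IsAdicComplete (maximalIdeal R) R]
    (hres : Function.Surjective (fun c : k => residue R (algebraMap k R c))) :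
    ∃ (n : ℕ) (m₀ : Ideal (MvPolynomial (Fin n) k)) (_ : m₀.IsMaximal)
      (π : AdicCompletion m₀ (MvPolynomial (Fin n) k) →+* R),
      (∀ p : MvPolynomial (Fin n) k, ∃ c : k, p - MvPolynomial.C c ∈ m₀) ∧
      Function.Surjective π ∧
      (m₀.map (algebraMap (MvPolynomial (Fin n) k) (AdicCompletion m₀ (MvPolynomial (Fin n) k)))).map π =
        maximalIdeal R ∧
      ∀ c : k, π (algebraMap (MvPolynomial (Fin n) k) (AdicCompletion m₀ (MvPolynomial (Fin n) k))
        (MvPolynomial.C c)) = algebraMap k R c := by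
  classical
  obtain ⟨n, x, hx⟩ := Submodule.fg_iff_exists_fin_generating_family.mp
    (IsNoetherian.noetherian (maximalIdeal R))
  let P := MvPolynomial (Fin n) k
  let ev : P →ₐ[k] k := MvPolynomial.aeval fun _ => 0
  have hevC : ∀ c, ev (MvPolynomial.C c) = c := fun c => by
    rw [← MvPolynomial.algebraMap_eq]; exact ev.commutes c
  have hev : Function.Surjective ev := fun c => ⟨MvPolynomial.C c, hevC c⟩
  let m₀ : Ideal P := RingHom.ker ev.toRingHom
  have hm₀ : m₀.IsMaximal := RingHom.ker_isMaximal_of_surjective _ hev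
  let φ₀ : P →ₐ[k] R := MvPolynomial.aeval x
  have hφC : ∀ c, φ₀ (MvPolynomial.C c) = algebraMap k R c := fun c => by
    rw [← MvPolynomial.algebraMap_eq]; exact φ₀.commutes c
  have hc : ∀ p : P, p - MvPolynomial.C (ev p) ∈ m₀ := fun p => by
    show ev (p - MvPolynomial.C (ev p)) = 0
    rw [map_sub, hevC, sub_self]
  have hmem : ∀ p ∈ m₀, φ₀ p ∈ maximalIdeal R := fun p hp => by
    have h : (residue R).comp φ₀.toRingHom = ((residue R).comp (algebraMap k R)).comp ev.toRingHom := by
      refine MvPolynomial.ringHom_ext (fun c => ?_) fun i => ?_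
      · show residue R (φ₀ (MvPolynomial.C c)) = residue R (algebraMap k R (ev (MvPolynomial.C c)))
        rw [hφC, hevC]
      · show residue R (φ₀ (MvPolynomial.X i)) = residue R (algebraMap k R (ev (MvPolynomial.X i)))
        rw [show φ₀ (MvPolynomial.X i) = x i from MvPolynomial.aeval_X _ _,
          show ev (MvPolynomial.X i) = 0 from MvPolynomial.aeval_X _ _, map_zero, map_zero,
          residue_eq_zero_iff, ← hx]
        exact Submodule.subset_span ⟨i, rfl⟩
    have := DFunLike.congr_fun h p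
    simp only [RingHom.comp_apply, AlgHom.toRingHom_eq_coe, RingHom.coe_coe] at this
    rw [show ev p = 0 from hp, map_zero, map_zero, residue_eq_zero_iff] at this
    exact this
  let fn : ∀ i, AdicCompletion m₀ P →+* R ⧸ maximalIdeal R ^ i := fun i =>
    (Ideal.Quotient.lift (m₀ ^ i) ((Ideal.Quotient.mk (maximalIdeal R ^ i)).comp φ₀.toRingHom) fun p hp => by
      rw [RingHom.comp_apply, Ideal.Quotient.eq_zero_iff_mem]
      exact Ideal.pow_right_mono (Ideal.map_le_iff_le_comap.mpr hmem) i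
        ((Ideal.map_pow φ₀.toRingHom m₀ i).le (Ideal.mem_map_of_mem _ hp))).comp
      (AdicCompletion.evalₐ m₀ i).toRingHom
  have hfn : ∀ {a b : ℕ} (hle : a ≤ b), (Ideal.Quotient.factorPow (maximalIdeal R) hle).comp (fn b) = fn a := by
    intro a b hle
    refine RingHom.ext fun z => ?_
    obtain ⟨p, hp⟩ := Ideal.Quotient.mk_surjective (AdicCompletion.evalₐ m₀ b z)
    simp only [fn, RingHom.comp_apply, AlgHom.toRingHom_eq_coe, RingHom.coe_coe]
    rw [← factor_evalₐ m₀ z hle, ← hp, Ideal.Quotient.factor_mk, Ideal.Quotient.lift_mk,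
      Ideal.Quotient.lift_mk]
    rfl
  let π : AdicCompletion m₀ P →+* R := IsAdicComplete.liftRingHom (maximalIdeal R) fn hfn
  have hπ : ∀ p : P, π (algebraMap P _ p) = φ₀ p := fun p => by
    refine sub_eq_zero.mp (IsHausdorff.haus (I := maximalIdeal R) inferInstance _ fun i => ?_)
    rw [SModEq.zero, smul_eq_mul, Ideal.mul_top, ← Ideal.Quotient.eq_zero_iff_mem, map_sub, sub_eq_zero,
      IsAdicComplete.mk_liftRingHom]
    simp only [fn, RingHom.comp_apply, AlgHom.toRingHom_eq_coe, RingHom.coe_coe, AlgHom.commutes,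
      Ideal.Quotient.algebraMap_eq, Ideal.Quotient.lift_mk]
  have hmap : (m₀.map (algebraMap P (AdicCompletion m₀ P))).map π = maximalIdeal R := by
    rw [Ideal.map_map]
    refine le_antisymm (Ideal.map_le_iff_le_comap.mpr fun p hp => ?_) ?_
    · rw [Ideal.mem_comap, RingHom.comp_apply, hπ]
      exact hmem p hp
    · refine hx.ge.trans (Submodule.span_le.mpr ?_)
      rintro _ ⟨i, rfl⟩
      have hX : (MvPolynomial.X i : P) ∈ m₀ := by
        exact MvPolynomial.aeval_X _ _
      have := Ideal.mem_map_of_mem (π.comp (algebraMap P (AdicCompletion m₀ P))) hX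
      rwa [RingHom.comp_apply, hπ, MvPolynomial.aeval_X] at this
  obtain ⟨hloc, -, hcpl, hmT, -⟩ := completion_facts k m₀
  refine ⟨n, m₀, hm₀, π, fun p => ⟨ev p, hc p⟩, ?_, hmap, fun c => by rw [hπ, hφC]⟩
  haveI := hcpl
  haveI : IsHausdorff ((maximalIdeal (AdicCompletion m₀ P)).map π) R := by
    rw [hmT, hmap]; infer_instance
  refine surjective_of_mk_map_comp_surjective (I := maximalIdeal (AdicCompletion m₀ P)) π fun y => ?_
  obtain ⟨y, rfl⟩ := Ideal.Quotient.mk_surjective y
  obtain ⟨c, hc⟩ := hres (residue R y)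
  refine ⟨algebraMap P _ (MvPolynomial.C c), ?_⟩
  rw [RingHom.comp_apply, hπ, Ideal.Quotient.eq, hmT, hmap]
  rw [← residue_eq_zero_iff, map_sub, hφC]
  exact sub_eq_zero.mpr hc

theorem mem_pow_smul_top_of_forall {T : Type u} [CommRing T] {s : ℕ} {I : Ideal T} {v : Fin s → T}
    (h : ∀ j, v j ∈ I) : v ∈ I • (⊤ : Submodule T (Fin s → T)) := by
  rw [pi_eq_sum_univ' v]
  exact Submodule.sum_mem _ fun j _ => Submodule.smul_mem_smul (h j) trivial

section
variable {k : Type u} [Field k] (F : CommAlgCat.{u} k ⥤ Type u)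
  (hF : ∀ (J : Type u) [SmallCategory J] [IsFiltered J], Limits.PreservesColimitsOfShape J F)
  (R : Type u) [CommRing R] [Algebra k R] [IsLocalRing R]
    [IsNoetherianRing R] [IsAdicComplete (maximalIdeal R) R]
    (hres : Function.Surjective (fun c : k => residue R (algebraMap k R c)))

include hF hres in
/-- A finite type model with the same initial forms. -/
theorem exists_approx (ξ : F.obj (CommAlgCat.of k R)) (N : ℕ) :
    ∃ (C : Type u) (_ : CommRing C) (_ : Algebra k C) (_ : Algebra.FiniteType k C)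
      (mC J : Ideal C) (_ : mC.IsMaximal) (q : C →ₐ[k] R)
      (D : Type u) (_ : CommRing D) (_ : Algebra k D) (x : F.obj (CommAlgCat.of k D))
      (f : D →ₐ[k] R) (c : D →ₐ[k] C ⧸ J),
      J ≤ mC ∧ (∀ a : C, ∃ t : k, a - algebraMap k C t ∈ mC) ∧
      (∀ n, ∀ a ∈ mC ^ n, q a ∈ maximalIdeal R ^ n) ∧
      (∀ n, ∀ y ∈ maximalIdeal R ^ n, ∃ a ∈ mC ^ n, q a - y ∈ maximalIdeal R ^ (n + 1)) ∧
      (∀ n, ∀ a ∈ mC ^ n, q a ∈ maximalIdeal R ^ (n + 1) ↔ a ∈ J ⊔ mC ^ (n + 1)) ∧
      (∀ a, q a ∈ maximalIdeal R ^ (N + 1) ↔ a ∈ J ⊔ mC ^ (N + 1)) ∧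
      F.map (CommAlgCat.ofHom f) x = ξ ∧
      ∀ b a, c b = Ideal.Quotient.mk J a → q a - f b ∈ maximalIdeal R ^ (N + 1) := by
  classical
  obtain ⟨n, m₀, hm₀, π, hconst, hπ, hmap, hπc⟩ := exists_presentation k R hres
  obtain ⟨hloc, hTN, hcpl, hmT, hind⟩ := completion_facts k m₀
  let P := MvPolynomial (Fin n) k
  let T := AdicCompletion m₀ P
  haveI := hTN
  haveI := hcpl
  have hfg : m₀.FG := IsNoetherian.noetherian m₀
  have hTmem : ∀ i (z : T), z ∈ maximalIdeal T ^ i ↔ AdicCompletion.evalₐ m₀ i z = 0 := fun i z => by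
    rw [hmT, ← Ideal.map_pow]; exact mem_map_pow_iff_evalₐ hfg i z
  have hπpow : ∀ i, (maximalIdeal T ^ i).map π = maximalIdeal R ^ i := fun i => by
    rw [Ideal.map_pow, hmT, hmap]
  have hπiff : ∀ i (z : T), π z ∈ maximalIdeal R ^ i ↔ z ∈ RingHom.ker π ⊔ maximalIdeal T ^ i := fun i z => by
    rw [← hπpow, ← Ideal.mem_comap, Ideal.comap_map_of_surjective' π hπ, sup_comm]
  -- relations and their syzygies
  obtain ⟨s, r, hr⟩ := Submodule.fg_iff_exists_fin_generating_family.mp (IsNoetherian.noetherian (RingHom.ker π))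
  let rL : (Fin s → T) →ₗ[T] T := Fintype.linearCombination T r
  obtain ⟨t, S, hS⟩ := Submodule.fg_iff_exists_fin_generating_family.mp (IsNoetherian.noetherian (LinearMap.ker rL))
  let SL : (Fin t → T) →ₗ[T] (Fin s → T) := Fintype.linearCombination T S
  have hex : ∀ a, rL a = 0 → a ∈ LinearMap.range SL := fun a ha => by
    rw [Fintype.range_linearCombination, hS]; exact ha
  obtain ⟨M₀, hM₀⟩ := exists_initial_eq (maximalIdeal T) rL SL hex
  -- the element
  haveI : Limits.PreservesFilteredColimits F := ⟨fun J _ _ => hF J⟩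
  obtain ⟨D, _, _, hD, f, x, hx⟩ := ApproxLib.exists_fp_lift_alg F R ξ
  obtain ⟨d, φ, hφ, hker⟩ := Algebra.FinitePresentation.out (R := k) (A := D)
  obtain ⟨l, g, hg⟩ := Submodule.fg_iff_exists_fin_generating_family.mp hker
  choose Z hZ using fun i => hπ (f (φ (MvPolynomial.X i)))
  let ZT : MvPolynomial (Fin d) k →+* T :=
    MvPolynomial.eval₂Hom ((algebraMap P T).comp MvPolynomial.C) Z
  have hZT : ∀ p, π (ZT p) = f (φ p) := by
    refine fun p => DFunLike.congr_fun (f := π.comp ZT) (g := (f.comp φ).toRingHom)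
      (MvPolynomial.ringHom_ext (fun c => ?_) fun i => ?_) p
    · simp only [ZT, RingHom.comp_apply, MvPolynomial.eval₂Hom_C, AlgHom.toRingHom_eq_coe, RingHom.coe_coe]
      rw [hπc, ← MvPolynomial.algebraMap_eq, AlgHom.commutes]
    · simp [ZT, hZ]
  have hgl : ∀ i, ∃ co : Fin s → T, ∑ j, co j • r j = ZT (g i) := fun i => by
    have : ZT (g i) ∈ RingHom.ker π := by
      show π (ZT (g i)) = 0
      rw [hZT, show φ (g i) = 0 from hg.le (Submodule.subset_span ⟨i, rfl⟩), map_zero]
    rw [← hr] at this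
    exact (Submodule.mem_span_range_iff_exists_fun T).mp this
  choose co hco using hgl
  -- the system of equations
  let σ := (Fin d ⊕ Fin s) ⊕ (Fin l × Fin s) ⊕ (Fin t × Fin s)
  let vZ : Fin d → MvPolynomial σ P := fun i => MvPolynomial.X (.inl (.inl i))
  let vr : Fin s → MvPolynomial σ P := fun j => MvPolynomial.X (.inl (.inr j))
  let vc : Fin l → Fin s → MvPolynomial σ P := fun i j => MvPolynomial.X (.inr (.inl (i, j)))
  let vS : Fin t → Fin s → MvPolynomial σ P := fun i j => MvPolynomial.X (.inr (.inr (i, j)))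
  let gZ : MvPolynomial (Fin d) k →+* MvPolynomial σ P :=
    MvPolynomial.eval₂Hom (MvPolynomial.C.comp MvPolynomial.C) vZ
  let eqs : Fin l ⊕ Fin t → MvPolynomial σ P :=
    Sum.elim (fun i => gZ (g i) - ∑ j, vc i j * vr j) (fun i => ∑ j, vS i j * vr j)
  let val : σ → T := Sum.elim (Sum.elim Z r) (Sum.elim (fun p => co p.1 p.2) fun p => S p.1 p.2)
  have hgZ : (MvPolynomial.aeval (R := P) val).toRingHom.comp gZ = ZT :=
    MvPolynomial.ringHom_ext (fun c => by simp [gZ, ZT]) fun i => by simp [gZ, ZT, vZ, val]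
  let K₀ : Ideal (MvPolynomial σ P) := Ideal.span (Set.range eqs)
  have hK₀ : ∀ p ∈ K₀, MvPolynomial.aeval val p = 0 := by
    intro p hp
    refine (Ideal.span_le (I := RingHom.ker (MvPolynomial.aeval (R := P) val))).2 ?_ hp
    rintro _ ⟨i | i, rfl⟩
    · show MvPolynomial.aeval val (gZ (g i) - ∑ j, vc i j * vr j) = 0
      rw [map_sub, show MvPolynomial.aeval val (gZ (g i)) = ZT (g i) from DFunLike.congr_fun hgZ (g i),
        ← hco, map_sum, sub_eq_zero]
      exact Finset.sum_congr rfl fun j _ => by simp [vc, vr, val]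
    · show MvPolynomial.aeval val (∑ j, vS i j * vr j) = 0
      have h0 : rL (S i) = 0 := hS.le (Submodule.subset_span ⟨i, rfl⟩)
      rw [Fintype.linearCombination_apply] at h0
      rw [map_sum]
      refine Eq.trans (Finset.sum_congr rfl fun j _ => ?_) h0
      simp [vS, vr, val]
  let B := MvPolynomial σ P ⧸ K₀
  haveI : Algebra.FinitePresentation P B :=
    Algebra.FinitePresentation.quotient (Submodule.fg_span (Set.finite_range _))
  have hdense : ∀ (y : T) (e : ℕ), ∃ a b : P, IsUnit (algebraMap P T b) ∧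
      algebraMap P T b * y - algebraMap P T a ∈ maximalIdeal T ^ e := fun y e => by
    obtain ⟨a, ha⟩ := AdicRingLib.exists_sub_mem_map_pow hfg e y
    refine ⟨a, 1, by rw [map_one]; exact isUnit_one, ?_⟩
    rw [map_one, one_mul, hmT, ← Ideal.map_pow]
    exact ha
  let K := M₀ + N + 1
  obtain ⟨C, _, _, hC, ψ, gB, hgB⟩ := ApproxLib.exists_etale_approx_hom (B := B) hind hdense
    (Ideal.Quotient.liftₐ K₀ (MvPolynomial.aeval val) hK₀) K
  letI : Algebra k C := ((algebraMap P C).comp (algebraMap k P)).toAlgebra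
  haveI : IsScalarTower k P C := IsScalarTower.of_algebraMap_eq fun _ => rfl
  haveI : Algebra.FiniteType k C :=
    Algebra.FiniteType.trans (S := P) inferInstance inferInstance
  let mC := ptIdeal m₀ ψ
  haveI hmC : mC.IsMaximal := ptIdeal_isMaximal m₀ ψ
  let ev : MvPolynomial σ P →ₐ[P] C := gB.comp (Ideal.Quotient.mkₐ P K₀)
  have hev : ∀ v, MvPolynomial.aeval val v - ψ (ev v) ∈ maximalIdeal T ^ K := fun v => hgB (Ideal.Quotient.mk K₀ v)
  have hev0 : ∀ i, ev (eqs i) = 0 := fun i => by
    show gB (Ideal.Quotient.mk K₀ (eqs i)) = 0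
    rw [Ideal.Quotient.eq_zero_iff_mem.mpr (Ideal.subset_span (Set.mem_range_self i) : eqs i ∈ K₀), map_zero]
  let rC : Fin s → C := fun j => ev (vr j)
  let J : Ideal C := Ideal.span (Set.range rC)
  let r'L : (Fin s → T) →ₗ[T] T := Fintype.linearCombination T fun j => ψ (rC j)
  let S'L : (Fin t → T) →ₗ[T] (Fin s → T) := Fintype.linearCombination T fun i j => ψ (ev (vS i j))
  have hrr : ∀ j, r j - ψ (rC j) ∈ maximalIdeal T ^ K := fun j => by
    have := hev (vr j)
    rwa [show MvPolynomial.aeval val (vr j) = r j by simp [vr, val]] at this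
  have hSS : ∀ i j, S i j - ψ (ev (vS i j)) ∈ maximalIdeal T ^ K := fun i j => by
    have := hev (vS i j)
    rwa [show MvPolynomial.aeval val (vS i j) = S i j by simp [vS, val]] at this
  have hrK : ∀ a, rL a - r'L a ∈ maximalIdeal T ^ K := fun a => by
    rw [Fintype.linearCombination_apply, Fintype.linearCombination_apply, ← Finset.sum_sub_distrib]
    refine Ideal.sum_mem _ fun j _ => ?_
    rw [← smul_sub]
    exact Ideal.mul_mem_left _ _ (hrr j)
  have hmain := hM₀ K (by omega) r'L S'L (fun b => ?_) hrK (fun b => ?_)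
  swap
  · rw [show S'L b = ∑ i, b i • (fun j => ψ (ev (vS i j))) from Fintype.linearCombination_apply _ _ _, map_sum]
    refine Finset.sum_eq_zero fun i _ => ?_
    rw [map_smul, Fintype.linearCombination_apply]
    have := congrArg ψ (hev0 (.inr i))
    simp only [eqs, Sum.elim_inr, map_sum, map_mul, map_zero] at this
    simp only [smul_eq_mul]
    rw [show (∑ j, ψ (ev (vS i j)) * ψ (rC j)) = 0 from this, mul_zero]
  swap
  · rw [Fintype.linearCombination_apply, Fintype.linearCombination_apply, ← Finset.sum_sub_distrib]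
    refine Submodule.sum_mem _ fun i _ => ?_
    rw [← smul_sub]
    exact Submodule.smul_mem _ _ (mem_pow_smul_top_of_forall fun j => hSS i j)
  have hptT : ∀ i a, a ∈ mC ^ i ↔ ψ a ∈ maximalIdeal T ^ i := fun i a => by
    rw [hTmem]; exact (trunc_eq_zero_iff m₀ ψ i a).symm
  have hlift : ∀ i (z : T), ∃ a : C, ψ a - z ∈ maximalIdeal T ^ i := fun i z => by
    obtain ⟨a, ha⟩ := trunc_surjective m₀ ψ i (AdicCompletion.evalₐ m₀ i z)
    refine ⟨a, (hTmem i _).mpr ?_⟩
    rw [map_sub, sub_eq_zero]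
    exact ha
  have hJ : ∀ i a, a ∈ J ⊔ mC ^ i ↔ ψ a ∈ LinearMap.range r'L ⊔ maximalIdeal T ^ i := fun i a => by
    constructor
    · intro h
      obtain ⟨u, hu, v, hv, rfl⟩ := Submodule.mem_sup.mp h
      obtain ⟨e, rfl⟩ := (Submodule.mem_span_range_iff_exists_fun C).mp hu
      rw [map_add]
      refine Submodule.add_mem_sup ⟨fun j => ψ (e j), ?_⟩ ((hptT i v).mp hv)
      rw [Fintype.linearCombination_apply, map_sum]
      exact Finset.sum_congr rfl fun j _ => by rw [smul_eq_mul, smul_eq_mul, map_mul]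
    · intro h
      obtain ⟨_, ⟨e, rfl⟩, z, hz, hsum⟩ := Submodule.mem_sup.mp h
      choose e' he' using fun j => hlift i (e j)
      have hu : ∑ j, e' j • rC j ∈ J :=
        Submodule.sum_mem _ fun j _ => Submodule.smul_mem _ _ (Submodule.subset_span ⟨j, rfl⟩)
      rw [← add_sub_cancel (∑ j, e' j • rC j) a]
      refine Submodule.add_mem_sup hu ((hptT i _).mpr ?_)
      rw [map_sub, ← hsum, Fintype.linearCombination_apply, map_sum, add_sub_right_comm]
      refine Ideal.add_mem _ ?_ hz
      rw [← Finset.sum_sub_distrib]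
      refine Ideal.sum_mem _ fun j _ => ?_
      rw [smul_eq_mul, smul_eq_mul, map_mul, ← sub_mul, ← neg_sub, neg_mul]
      exact (Ideal.neg_mem_iff _).mpr (Ideal.mul_mem_right _ _ (he' j))
  have hkerπ : RingHom.ker π = LinearMap.range rL := by
    rw [Fintype.range_linearCombination]; exact hr.symm
  let q : C →ₐ[k] R :=
    { π.comp ψ.toRingHom with
      commutes' := fun c => by
        show π (ψ (algebraMap P C (algebraMap k P c))) = _
        rw [ψ.commutes]
        exact hπc c }
  let cP : MvPolynomial (Fin d) k →+* C ⧸ J := (Ideal.Quotient.mk J).comp (ev.toRingHom.comp gZ)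
  let cPa : MvPolynomial (Fin d) k →ₐ[k] C ⧸ J :=
    { cP with
      commutes' := fun c => by
        show Ideal.Quotient.mk J (ev (gZ (MvPolynomial.C c))) = Ideal.Quotient.mk J (algebraMap k C c)
        simp only [gZ, MvPolynomial.eval₂Hom_C, RingHom.comp_apply]
        rw [← MvPolynomial.algebraMap_eq, ← MvPolynomial.algebraMap_eq, AlgHom.commutes]
        rfl }
  have hcP : ∀ p ∈ RingHom.ker φ, cPa p = 0 := by
    intro p hp
    refine (Ideal.span_le (I := RingHom.ker cPa)).2 ?_ (hg.ge hp)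
    rintro _ ⟨i, rfl⟩
    show Ideal.Quotient.mk J (ev (gZ (g i))) = 0
    have := hev0 (.inl i)
    simp only [eqs, Sum.elim_inl, map_sub, map_sum, map_mul, sub_eq_zero] at this
    rw [this, Ideal.Quotient.eq_zero_iff_mem]
    exact Ideal.sum_mem _ fun j _ => Ideal.mul_mem_left _ _ (Ideal.subset_span ⟨j, rfl⟩)
  have hkerN : ∀ a, q a ∈ maximalIdeal R ^ (N + 1) ↔ a ∈ J ⊔ mC ^ (N + 1) := fun a => by
    show π (ψ a) ∈ _ ↔ _
    rw [hπiff, hJ, hkerπ]
    have hle : maximalIdeal T ^ K ≤ maximalIdeal T ^ (N + 1) := Ideal.pow_le_pow_right (by omega)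
    have key : LinearMap.range rL ⊔ maximalIdeal T ^ (N + 1) = LinearMap.range r'L ⊔ maximalIdeal T ^ (N + 1) := by
      apply le_antisymm <;> refine sup_le ?_ le_sup_right <;> rintro _ ⟨e, rfl⟩
      · exact Submodule.mem_sup.mpr ⟨r'L e, ⟨e, rfl⟩, _, hle (hrK e), add_sub_cancel _ _⟩
      · exact Submodule.mem_sup.mpr ⟨rL e, ⟨e, rfl⟩, r'L e - rL e,
          hle (by rw [← neg_sub]; exact (Ideal.neg_mem_iff _).mpr (hrK e)), add_sub_cancel _ _⟩
    rw [key]
  have hJm : J ≤ mC := by
    refine Ideal.span_le.mpr ?_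
    rintro _ ⟨j, rfl⟩
    rw [SetLike.mem_coe, ← pow_one mC, hptT, pow_one]
    have hrj : r j ∈ maximalIdeal T :=
      le_maximalIdeal (RingHom.ker_ne_top π) (hr.le (Submodule.subset_span ⟨j, rfl⟩))
    have := Ideal.pow_le_self (show K ≠ 0 by omega) (hrr j)
    have h2 := Ideal.sub_mem _ hrj this
    rwa [sub_sub_cancel] at h2
  refine ⟨C, inferInstance, inferInstance, inferInstance, mC, J, hmC, q, D, inferInstance, inferInstance, x, f,
    AlgHom.liftOfSurjective φ hφ cPa hcP, hJm, fun a => ?_, fun i a ha => ?_, fun i y hy => ?_,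
    fun i a ha => ?_, hkerN, hx, fun b a hba => ?_⟩
  · obtain ⟨p, hp⟩ := Ideal.Quotient.mk_surjective (trunc m₀ ψ 1 a)
    obtain ⟨c, hc⟩ := hconst p
    refine ⟨c, ?_⟩
    show trunc m₀ ψ 1 (a - algebraMap P C (algebraMap k P c)) = 0
    rw [map_sub, AlgHom.commutes, ← hp, Ideal.Quotient.algebraMap_eq, ← map_sub,
      Ideal.Quotient.eq_zero_iff_mem, pow_one]
    exact hc
  · show π (ψ a) ∈ _
    rw [← hπpow]
    exact Ideal.mem_map_of_mem _ ((hptT i a).mp ha)
  · rw [← hπpow, Ideal.mem_map_iff_of_surjective π hπ] at hy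
    obtain ⟨z, hz, rfl⟩ := hy
    obtain ⟨a, ha⟩ := hlift (i + 1) z
    refine ⟨a, (hptT i a).mpr ?_, ?_⟩
    · have := Ideal.add_mem _ (Ideal.pow_le_pow_right i.le_succ ha) hz
      rwa [sub_add_cancel] at this
    · show π (ψ a) - π z ∈ _
      rw [← map_sub, ← hπpow]
      exact Ideal.mem_map_of_mem _ ha
  · show π (ψ a) ∈ _ ↔ _
    rw [hπiff, hJ, hkerπ]
    exact hmain i (ψ a) ((hptT i a).mp ha)
  · obtain ⟨p, rfl⟩ := hφ b
    rw [← AlgHom.comp_apply _ φ, AlgHom.liftOfSurjective_comp] at hba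
    have h1 : ev (gZ p) - a ∈ J := Ideal.Quotient.eq.mp hba
    have h2 : q (ev (gZ p) - a) ∈ maximalIdeal R ^ (N + 1) := (hkerN _).mpr (Submodule.mem_sup_left h1)
    have h3 : q (ev (gZ p)) - f (φ p) ∈ maximalIdeal R ^ (N + 1) := by
      show π (ψ (ev (gZ p))) - _ ∈ _
      rw [← hZT, ← map_sub, ← hπpow]
      refine Ideal.mem_map_of_mem _ (Ideal.pow_le_pow_right (show N + 1 ≤ K by omega) ?_)
      rw [← neg_sub, show ZT p = MvPolynomial.aeval val (gZ p) from (DFunLike.congr_fun hgZ p).symm]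
      exact (Ideal.neg_mem_iff _).mpr (hev _)
    have := Ideal.sub_mem _ h3 h2
    rw [map_sub] at this
    convert this using 1
    ring

end

end AlgzApproxLib
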