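import Mathlib
import Groth.Prelude.Def_AssocGr

/-!
# Functoriality of the associated graded ring
-/

set_option autoImplicit false
set_option linter.all false

universe u

open Polynomial

namespace AlgzApproxLib

open AssocGr

variable {A B : Type u} [CommRing A] [CommRing B] {F : FiltBl.IdealFiltration A}
  {G : FiltBl.IdealFiltration B} (f : A →+* B) (hf : ∀ n, ∀ a ∈ F.F n, f a ∈ G.F n)

/-- The map of Rees algebras. -/
noncomputable def reesMap : F.rees →+* G.rees where
  toFun x := ⟨(x.1).map f, fun n => by rw [coeff_map]; exact hf n _ (x.2 n)⟩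
  map_one' := Subtype.ext (Polynomial.map_one f)
  map_mul' x y := Subtype.ext (Polynomial.map_mul f)
  map_zero' := Subtype.ext (Polynomial.map_zero f)
  map_add' x y := Subtype.ext (Polynomial.map_add f)

/-- The map of associated graded rings. -/
noncomputable def grMap : GrRing F →+* GrRing G :=
  Ideal.Quotient.lift (succIdeal F) ((mkG G).toRingHom.comp (reesMap f hf)) fun x hx => by
    show mkG G (reesMap f hf x) = 0
    rw [mkG_eq_zero_iff, mem_succIdeal_iff]
    intro n
    show ((x.1).map f).coeff n ∈ _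
    rw [coeff_map]
    exact hf (n + 1) _ (hx n)

theorem grMap_mkG (x : F.rees) : grMap f hf (mkG F x) = mkG G (reesMap f hf x) := rfl

theorem grMap_eq_zero_iff (x : F.rees) :
    grMap f hf (mkG F x) = 0 ↔ ∀ n, f ((x : A[X]).coeff n) ∈ G.F (n + 1) := by
  rw [grMap_mkG, mkG_eq_zero_iff, mem_succIdeal_iff]
  refine forall_congr' fun n => ?_
  show ((x.1).map f).coeff n ∈ _ ↔ _
  rw [coeff_map]

theorem grMap_inDeg (n : ℕ) (a : F.F n) :
    grMap f hf (inDeg F n a : GrRing F) = (inDeg G n ⟨f a, hf n _ a.2⟩ : GrRing G) := by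
  rw [coe_inDeg, coe_inDeg, grMap_mkG]
  congr 1
  refine Subtype.ext ?_
  show (((monom F n a : Rees.deg F.rees n) : F.rees) : A[X]).map f = _
  rw [coe_coe_monom, coe_coe_monom, map_monomial]

theorem grMap_algebraMap (a : A) :
    grMap f hf (algebraMap A (GrRing F) a) = algebraMap B (GrRing G) (f a) := by
  rw [← (mkG F).commutes a, ← (mkG G).commutes (f a), grMap_mkG]
  congr 1
  refine Subtype.ext ?_
  show ((algebraMap A F.rees a : A[X])).map f = _
  rw [Subalgebra.coe_algebraMap, Subalgebra.coe_algebraMap, Polynomial.algebraMap_eq,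
    Polynomial.algebraMap_eq, map_C]

theorem grMap_mem_gr (n : ℕ) {x : GrRing F} (hx : x ∈ gr F n) : grMap f hf x ∈ gr G n := by
  obtain ⟨a, ha⟩ := inDeg_surjective F n ⟨x, hx⟩
  have : x = (inDeg F n a : GrRing F) := congrArg Subtype.val ha.symm
  rw [this, grMap_inDeg]
  exact (inDeg G n _).2

theorem gr_lift (hs : ∀ n, ∀ y ∈ G.F n, ∃ a ∈ F.F n, f a - y ∈ G.F (n + 1)) (n : ℕ) {y : GrRing G}
    (hy : y ∈ gr G n) : ∃ x ∈ gr F n, grMap f hf x = y := by
  obtain ⟨b, hb⟩ := inDeg_surjective G n ⟨y, hy⟩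
  obtain ⟨a, ha, hab⟩ := hs n b b.2
  refine ⟨inDeg F n ⟨a, ha⟩, (inDeg F n ⟨a, ha⟩).2, ?_⟩
  rw [grMap_inDeg, show y = (inDeg G n b : GrRing G) from congrArg Subtype.val hb.symm]
  refine congrArg Subtype.val (sub_eq_zero.mp ?_)
  rw [← map_sub, inDeg_eq_zero_iff]
  exact hab

theorem grMap_surjective (hs : ∀ n, ∀ y ∈ G.F n, ∃ a ∈ F.F n, f a - y ∈ G.F (n + 1)) :
    Function.Surjective (grMap f hf) := by
  intro y
  obtain ⟨z, rfl⟩ := mkG_surjective G y
  rw [← RingHom.mem_range, ← sum_term G z, map_sum]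
  refine Subring.sum_mem _ fun n _ => ?_
  obtain ⟨x, -, hx⟩ := gr_lift f hf hs n (mkG_mem_gr G (term_mem_deg G z n))
  exact ⟨x, hx⟩

include hf in
/-- Two graded quotients of one associated graded ring with the same kernel. -/
theorem exists_grEquiv {B' : Type u} [CommRing B'] {G' : FiltBl.IdealFiltration B'} (f' : A →+* B')
    (hf' : ∀ n, ∀ a ∈ F.F n, f' a ∈ G'.F n)
    (hs : ∀ n, ∀ y ∈ G.F n, ∃ a ∈ F.F n, f a - y ∈ G.F (n + 1))
    (hs' : ∀ n, ∀ y ∈ G'.F n, ∃ a ∈ F.F n, f' a - y ∈ G'.F (n + 1))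
    (hk : ∀ n, ∀ a ∈ F.F n, f a ∈ G.F (n + 1) ↔ f' a ∈ G'.F (n + 1)) :
    ∃ e : GrRing G ≃+* GrRing G', (∀ n x, x ∈ gr G n → e x ∈ gr G' n) ∧
      ∀ a : A, e (algebraMap B (GrRing G) (f a)) = algebraMap B' (GrRing G') (f' a) := by
  have hker : RingHom.ker (grMap f hf) = RingHom.ker (grMap f' hf') := by
    ext z
    obtain ⟨x, rfl⟩ := mkG_surjective F z
    rw [RingHom.mem_ker, RingHom.mem_ker, grMap_eq_zero_iff, grMap_eq_zero_iff]
    exact forall_congr' fun n => hk n _ (x.2 n)
  let e : GrRing G ≃+* GrRing G' :=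
    ((RingHom.quotientKerEquivOfSurjective (grMap_surjective f hf hs)).symm.trans
      (Ideal.quotEquivOfEq hker)).trans (RingHom.quotientKerEquivOfSurjective (grMap_surjective f' hf' hs'))
  have he : ∀ z, e (grMap f hf z) = grMap f' hf' z := fun z => by
    show (RingHom.quotientKerEquivOfSurjective (grMap_surjective f' hf' hs'))
      (Ideal.quotEquivOfEq hker ((RingHom.quotientKerEquivOfSurjective (grMap_surjective f hf hs)).symm _)) = _
    have : (RingHom.quotientKerEquivOfSurjective (grMap_surjective f hf hs)).symm (grMap f hf z) =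
        Ideal.Quotient.mk _ z := by
      rw [RingEquiv.symm_apply_eq]; rfl
    rw [this]
    rfl
  refine ⟨e, fun n y hy => ?_, fun a => ?_⟩
  · obtain ⟨x, hx, rfl⟩ := gr_lift f hf hs n hy
    rw [he]
    exact grMap_mem_gr f' hf' n hx
  · rw [← grMap_algebraMap f hf, he, grMap_algebraMap]

end AlgzApproxLib
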