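import Groth.Agent.AlgzApproxLib.Approx
import Groth.Agent.AlgzApproxLib.GrMap

/-!
# The finite type model of a complete local algebra
-/

set_option autoImplicit false
set_option linter.all false

universe u

open IsLocalRing CategoryTheory

namespace AlgzApproxLib

variable {k : Type u} [Field k] {R : Type u} [CommRing R] [Algebra k R] [IsLocalRing R]
  {C : Type u} [CommRing C] [Algebra k C] {mC J : Ideal C} {q : C →ₐ[k] R}

theorem mk_mem_pow_iff (i : ℕ) (a : C) :
    Ideal.Quotient.mk J a ∈ mC.map (Ideal.Quotient.mk J) ^ i ↔ a ∈ J ⊔ mC ^ i := by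
  rw [← Ideal.map_pow, Ideal.mem_quotient_iff_mem_sup, sup_comm]

theorem exists_near (hres : Function.Surjective (fun c : k => residue R (algebraMap k R c)))
    (hlift : ∀ n, ∀ y ∈ maximalIdeal R ^ n, ∃ a ∈ mC ^ n, q a - y ∈ maximalIdeal R ^ (n + 1))
    (i : ℕ) (y : R) : ∃ a : C, q a - y ∈ maximalIdeal R ^ i := by
  induction i with
  | zero => exact ⟨0, by simp⟩
  | succ i ih =>
    obtain ⟨a, ha⟩ := ih
    obtain ⟨b, -, hb⟩ := hlift i _ ((Ideal.neg_mem_iff _).mpr ha)
    refine ⟨a + b, ?_⟩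
    convert hb using 1
    rw [map_add]; ring

/-- The truncated comparison isomorphism. -/
theorem exists_quotEquiv (hres : Function.Surjective (fun c : k => residue R (algebraMap k R c)))
    (hlift : ∀ n, ∀ y ∈ maximalIdeal R ^ n, ∃ a ∈ mC ^ n, q a - y ∈ maximalIdeal R ^ (n + 1))
    (N : ℕ) (hkerN : ∀ a, q a ∈ maximalIdeal R ^ (N + 1) ↔ a ∈ J ⊔ mC ^ (N + 1)) :
    ∃ φ : (R ⧸ maximalIdeal R ^ (N + 1)) ≃ₐ[k] ((C ⧸ J) ⧸ mC.map (Ideal.Quotient.mk J) ^ (N + 1)),
      ∀ a, φ (Ideal.Quotient.mk _ (q a)) = Ideal.Quotient.mk _ (Ideal.Quotient.mk J a) := by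
  let u : C →ₐ[k] R ⧸ maximalIdeal R ^ (N + 1) := (Ideal.Quotient.mkₐ k _).comp q
  let v : C →ₐ[k] (C ⧸ J) ⧸ mC.map (Ideal.Quotient.mk J) ^ (N + 1) :=
    (Ideal.Quotient.mkₐ k _).comp (Ideal.Quotient.mkₐ k J)
  have hu : Function.Surjective u := fun z => by
    obtain ⟨y, rfl⟩ := Ideal.Quotient.mk_surjective z
    obtain ⟨a, ha⟩ := exists_near hres hlift (N + 1) y
    exact ⟨a, Ideal.Quotient.eq.mpr ha⟩
  have hv : Function.Surjective v := (Ideal.Quotient.mkₐ_surjective k _).comp (Ideal.Quotient.mkₐ_surjective k _)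
  have hker : RingHom.ker u = RingHom.ker v := by
    ext a
    show Ideal.Quotient.mk _ (q a) = 0 ↔ Ideal.Quotient.mk _ (Ideal.Quotient.mk J a) = 0
    rw [Ideal.Quotient.eq_zero_iff_mem, Ideal.Quotient.eq_zero_iff_mem, hkerN, mk_mem_pow_iff]
  refine ⟨(Ideal.quotientKerAlgEquivOfSurjective hu).symm.trans
    ((Ideal.quotientEquivAlgOfEq k hker).trans (Ideal.quotientKerAlgEquivOfSurjective hv)), fun a => ?_⟩
  have : (Ideal.quotientKerAlgEquivOfSurjective hu).symm (u a) = Ideal.Quotient.mk _ a := by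
    rw [AlgEquiv.symm_apply_eq]; rfl
  show (Ideal.quotientKerAlgEquivOfSurjective hv)
    (Ideal.quotientEquivAlgOfEq k hker ((Ideal.quotientKerAlgEquivOfSurjective hu).symm (u a))) = _
  rw [this]
  rfl

/-- A map which agrees with the identity modulo `m ^ 2` agrees with it on initial forms. -/
theorem sub_mem_pow_succ {A : Type u} [CommRing A] {m : Ideal A} (v w : C →+* A)
    (hw : ∀ a ∈ mC, w a ∈ m) (h : ∀ a, v a - w a ∈ m ^ 2) :
    ∀ i, 1 ≤ i → ∀ a ∈ mC ^ i, v a ∈ m ^ i ∧ v a - w a ∈ m ^ (i + 1) := by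
  have hv : ∀ a ∈ mC, v a ∈ m := fun a ha => by
    have := Ideal.add_mem _ (Ideal.pow_le_self two_ne_zero (h a)) (hw a ha)
    rwa [sub_add_cancel] at this
  have hwpow : ∀ i, ∀ a ∈ mC ^ i, w a ∈ m ^ i := fun i a ha =>
    Ideal.pow_right_mono (Ideal.map_le_iff_le_comap.mpr hw) i
      ((Ideal.map_pow w mC i).le (Ideal.mem_map_of_mem _ ha))
  intro i hi
  induction i, hi using Nat.le_induction with
  | base =>
    intro a ha
    rw [pow_one] at ha
    exact ⟨by rw [pow_one]; exact hv a ha, h a⟩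
  | succ i hi ih =>
    intro a ha
    rw [pow_succ] at ha
    refine Submodule.mul_induction_on ha (fun x hx y hy => ?_) fun x y hx hy => ?_
    · obtain ⟨h1, h2⟩ := ih x hx
      refine ⟨?_, ?_⟩
      · rw [map_mul, pow_succ]; exact Ideal.mul_mem_mul h1 (hv y hy)
      · have e : v (x * y) - w (x * y) = (v x - w x) * v y + w x * (v y - w y) := by
          rw [map_mul, map_mul]; ring
        rw [e]
        refine Ideal.add_mem _ ?_ ?_
        · rw [pow_succ]; exact Ideal.mul_mem_mul h2 (hv y hy)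
        · rw [show i + 1 + 1 = i + 2 from rfl, pow_add]
          exact Ideal.mul_mem_mul (hwpow i x hx) (h y)
    · refine ⟨by rw [map_add]; exact Ideal.add_mem _ hx.1 hy.1, ?_⟩
      have := Ideal.add_mem _ hx.2 hy.2
      convert this using 1
      rw [map_add, map_add]; ring

section Versal

variable {A : Type u} [CommRing A] [Algebra k A] {m : Ideal A}

theorem isLocalRing_quotient_pow (hm : m.IsMaximal) (n : ℕ) : IsLocalRing (A ⧸ m ^ (n + 1)) := by
  haveI : Nontrivial (A ⧸ m ^ (n + 1)) := Ideal.Quotient.nontrivial_iff.mpr fun h =>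
    hm.ne_top (top_le_iff.mp (h.ge.trans (Ideal.pow_le_self (Nat.succ_ne_zero n))))
  refine IsLocalRing.of_unique_max_ideal ⟨m.map (Ideal.Quotient.mk _),
    Ideal.IsMaximal.map_of_surjective_of_ker_le Ideal.Quotient.mk_surjective
      (by rw [Ideal.mk_ker]; exact Ideal.pow_le_self (Nat.succ_ne_zero n)), fun M hM => ?_⟩
  haveI := hM
  have hMc : (M.comap (Ideal.Quotient.mk (m ^ (n + 1)))).IsPrime := Ideal.IsPrime.comap _
  have hle : m ≤ M.comap (Ideal.Quotient.mk (m ^ (n + 1))) := hMc.le_of_pow_le (fun x hx => by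
    rw [Ideal.mem_comap, Ideal.Quotient.eq_zero_iff_mem.mpr hx]; exact zero_mem _)
  have := Ideal.map_comap_of_surjective _ Ideal.Quotient.mk_surjective M
  rw [← hm.eq_of_le hMc.ne_top hle] at this
  exact this.symm

theorem isArtinianRing_quotient_pow [IsNoetherianRing A] (hm : m.IsMaximal) (n : ℕ) :
    IsArtinianRing (A ⧸ m ^ (n + 1)) := by
  rw [isArtinianRing_iff_isNoetherianRing_krullDimLE_zero]
  refine ⟨inferInstance, Ring.KrullDimLE.mk₀ fun P hP => ?_⟩
  have hMc : (P.comap (Ideal.Quotient.mk (m ^ (n + 1)))).IsPrime := Ideal.IsPrime.comap _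
  have hle : m ≤ P.comap (Ideal.Quotient.mk (m ^ (n + 1))) := hMc.le_of_pow_le (fun x hx => by
    rw [Ideal.mem_comap, Ideal.Quotient.eq_zero_iff_mem.mpr hx]; exact zero_mem _)
  have := Ideal.map_comap_of_surjective (Ideal.Quotient.mk (m ^ (n + 1))) Ideal.Quotient.mk_surjective P
  rw [← hm.eq_of_le hMc.ne_top hle] at this
  exact this ▸ Ideal.IsMaximal.map_of_surjective_of_ker_le Ideal.Quotient.mk_surjective
    (by rw [Ideal.mk_ker]; exact Ideal.pow_le_self (Nat.succ_ne_zero n))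

theorem residue_quotient_pow (hm : m.IsMaximal) (hk : ∀ a : A, ∃ t : k, a - algebraMap k A t ∈ m) (n : ℕ)
    [IsLocalRing (A ⧸ m ^ (n + 1))] :
    Function.Surjective (fun c : k => residue (A ⧸ m ^ (n + 1)) (algebraMap k _ c)) := by
  intro z
  obtain ⟨z, rfl⟩ := residue_surjective z
  obtain ⟨a, rfl⟩ := Ideal.Quotient.mk_surjective z
  obtain ⟨t, ht⟩ := hk a
  refine ⟨t, ?_⟩
  show residue _ (Ideal.Quotient.mk _ (algebraMap k A t)) = residue _ (Ideal.Quotient.mk _ a)
  rw [eq_comm, ← sub_eq_zero, ← map_sub, residue_eq_zero_iff, ← map_sub]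
  intro hu
  obtain ⟨w, hw⟩ := hu.exists_right_inv
  obtain ⟨w, rfl⟩ := Ideal.Quotient.mk_surjective w
  rw [← map_mul, ← map_one (Ideal.Quotient.mk (m ^ (n + 1))), Ideal.Quotient.eq] at hw
  refine hm.ne_top ((Ideal.eq_top_iff_one _).mpr ?_)
  have := Ideal.sub_mem _ (Ideal.mul_mem_right w _ ht) (Ideal.pow_le_self (Nat.succ_ne_zero n) hw)
  rwa [sub_sub_cancel] at this

end Versal

end AlgzApproxLib
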