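import Mathlib

/-!
# A point of an étale algebra over the completion of the base
-/

set_option autoImplicit false
set_option linter.all false

universe u

namespace AlgzApproxLib

theorem factor_evalₐ {P : Type u} [CommRing P] (m₀ : Ideal P) (z : AdicCompletion m₀ P) {i j : ℕ}
    (h : i ≤ j) : Ideal.Quotient.factor (Ideal.pow_le_pow_right h) (AdicCompletion.evalₐ m₀ j z) =
      AdicCompletion.evalₐ m₀ i z := by
  induction z using AdicCompletion.induction_on with
  | _ a =>
    rw [AdicCompletion.evalₐ_mk, AdicCompletion.evalₐ_mk, Ideal.Quotient.factor_mk, eq_comm,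
      Ideal.Quotient.eq]
    have := SModEq.sub_mem.mp (a.property h)
    rwa [smul_eq_mul, Ideal.mul_top] at this

variable {P : Type u} [CommRing P] (m₀ : Ideal P) {C : Type u} [CommRing C] [Algebra P C]
  (ψ : C →ₐ[P] AdicCompletion m₀ P)

/-- The truncations of the point. -/
noncomputable def trunc (n : ℕ) : C →ₐ[P] P ⧸ m₀ ^ n := (AdicCompletion.evalₐ m₀ n).comp ψ

theorem trunc_surjective (n : ℕ) : Function.Surjective (trunc m₀ ψ n) := fun y => by
  obtain ⟨p, rfl⟩ := Ideal.Quotient.mk_surjective y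
  exact ⟨algebraMap P C p, (trunc m₀ ψ n).commutes p⟩

theorem trunc_compat {i j : ℕ} (h : i ≤ j) (x : C) :
    Ideal.Quotient.factor (Ideal.pow_le_pow_right h) (trunc m₀ ψ j x) = trunc m₀ ψ i x :=
  factor_evalₐ m₀ (ψ x) h

/-- The maximal ideal of the point. -/
noncomputable def ptIdeal : Ideal C := RingHom.ker (trunc m₀ ψ 1).toRingHom

theorem algebraMap_mem_ptIdeal_iff (p : P) : algebraMap P C p ∈ ptIdeal m₀ ψ ↔ p ∈ m₀ := by
  show trunc m₀ ψ 1 (algebraMap P C p) = 0 ↔ _
  rw [AlgHom.commutes, Ideal.Quotient.algebraMap_eq, Ideal.Quotient.eq_zero_iff_mem, pow_one]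

theorem ptIdeal_isMaximal [hm : m₀.IsMaximal] : (ptIdeal m₀ ψ).IsMaximal := by
  haveI : (m₀ ^ 1).IsMaximal := by rwa [pow_one]
  letI : Field (P ⧸ m₀ ^ 1) := Ideal.Quotient.field _
  exact RingHom.ker_isMaximal_of_surjective _ (trunc_surjective m₀ ψ 1)

theorem trunc_eq_zero_iff [Algebra.FormallyUnramified P C] (n : ℕ) (x : C) :
    trunc m₀ ψ n x = 0 ↔ x ∈ ptIdeal m₀ ψ ^ n := by
  rcases Nat.eq_zero_or_pos n with rfl | hn
  · haveI : Subsingleton (P ⧸ m₀ ^ 0) := Ideal.Quotient.subsingleton_iff.mpr ((pow_zero m₀).trans Ideal.one_eq_top)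
    exact ⟨fun _ => by rw [pow_zero, Ideal.one_eq_top]; trivial, fun _ => Subsingleton.elim _ _⟩
  constructor
  · intro hx
    let m := ptIdeal m₀ ψ
    let θ : P ⧸ m₀ ^ n →ₐ[P] C ⧸ m ^ n :=
      Ideal.Quotient.liftₐ (m₀ ^ n) (Algebra.ofId P (C ⧸ m ^ n)) fun p hp => by
        show Ideal.Quotient.mk (m ^ n) (algebraMap P C p) = 0
        rw [Ideal.Quotient.eq_zero_iff_mem]
        refine Ideal.pow_right_mono (Ideal.map_le_iff_le_comap.mpr fun q hq => ?_) n
          ((Ideal.map_pow (algebraMap P C) m₀ n).le (Ideal.mem_map_of_mem _ hp))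
        exact (algebraMap_mem_ptIdeal_iff m₀ ψ q).mpr hq
    have key : (Ideal.Quotient.mkₐ P (m ^ n)) = θ.comp (trunc m₀ ψ n) := by
      refine Algebra.FormallyUnramified.ext' (Ideal.Quotient.factor (Ideal.pow_le_self hn.ne' : m ^ n ≤ m)) ?_ _ _ fun y => ?_
      · refine ⟨n, ?_⟩
        rw [Ideal.Quotient.factor_ker, ← Ideal.map_pow, Ideal.map_quotient_self]
        rfl
      · obtain ⟨p, hp⟩ := Ideal.Quotient.mk_surjective (trunc m₀ ψ n y)
        have h1 : y - algebraMap P C p ∈ m := by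
          show trunc m₀ ψ 1 (y - algebraMap P C p) = 0
          rw [map_sub, AlgHom.commutes, ← trunc_compat m₀ ψ (i := 1) (j := n) hn y, ← hp,
            Ideal.Quotient.factor_mk, Ideal.Quotient.algebraMap_eq, sub_self]
        show Ideal.Quotient.mk m y = Ideal.Quotient.factor _ (θ (trunc m₀ ψ n y))
        rw [← hp]
        show Ideal.Quotient.mk m y = Ideal.Quotient.mk m (algebraMap P C p)
        exact Ideal.Quotient.eq.mpr h1
    have h := DFunLike.congr_fun key x
    rw [AlgHom.comp_apply, hx, map_zero] at h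
    exact Ideal.Quotient.eq_zero_iff_mem.mp h
  · intro hx
    have hmap : (ptIdeal m₀ ψ).map (trunc m₀ ψ n).toRingHom ≤ m₀.map (Ideal.Quotient.mk (m₀ ^ n)) := by
      refine Ideal.map_le_iff_le_comap.mpr fun y hy => ?_
      obtain ⟨p, hp⟩ := Ideal.Quotient.mk_surjective (trunc m₀ ψ n y)
      have h1 : trunc m₀ ψ 1 y = 0 := hy
      rw [← trunc_compat m₀ ψ (i := 1) (j := n) hn y, ← hp, Ideal.Quotient.factor_mk,
        Ideal.Quotient.eq_zero_iff_mem, pow_one] at h1
      rw [Ideal.mem_comap, AlgHom.toRingHom_eq_coe, RingHom.coe_coe, ← hp]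
      exact Ideal.mem_map_of_mem _ h1
    have h := Ideal.pow_right_mono hmap n ((Ideal.map_pow (trunc m₀ ψ n).toRingHom (ptIdeal m₀ ψ) n).le
      (Ideal.mem_map_of_mem _ hx))
    rw [← Ideal.map_pow, Ideal.map_quotient_self] at h
    exact h

end AlgzApproxLib
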