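import Groth.Agent.AlgzApproxLib.Model

/-!
# The algebraization of a compatible system of comparison maps
-/

set_option autoImplicit false
set_option linter.all false

universe u

open IsLocalRing

namespace AlgzApproxLib

variable {k : Type u} [Field k] {R : Type u} [CommRing R] [Algebra k R] [IsLocalRing R]
  {C : Type u} [CommRing C] [Algebra k C] {mC J : Ideal C} {q : C →ₐ[k] R}

theorem factor_compat {A : Type u} [CommRing A] [Algebra k A] {m : Ideal A}
    (g : ∀ n : ℕ, R →ₐ[k] A ⧸ m ^ (n + 2))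
    (hg : ∀ n y, Ideal.Quotient.factor (Ideal.pow_le_pow_right (show n + 2 ≤ n + 1 + 2 by omega)) (g (n + 1) y) = g n y)
    {a b : ℕ} (h : a ≤ b) (y : R) :
    Ideal.Quotient.factor (Ideal.pow_le_pow_right (show a + 2 ≤ b + 2 by omega)) (g b y) = g a y := by
  induction b, h using Nat.le_induction generalizing y with
  | base => obtain ⟨z, hz⟩ := Ideal.Quotient.mk_surjective (g a y); rw [← hz, Ideal.Quotient.factor_mk]
  | succ b hb ih =>
    rw [← ih y, ← hg b y, Ideal.Quotient.factor_comp_apply]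

/-- A compatible system of maps which agrees with the comparison map modulo `m ^ 2` is a completion. -/
theorem exists_completion_equiv [IsAdicComplete (maximalIdeal R) R]
    (hmap : ∀ n, ∀ a ∈ mC ^ n, q a ∈ maximalIdeal R ^ n)
    (hlift : ∀ n, ∀ y ∈ maximalIdeal R ^ n, ∃ a ∈ mC ^ n, q a - y ∈ maximalIdeal R ^ (n + 1))
    (hker : ∀ n, ∀ a ∈ mC ^ n, q a ∈ maximalIdeal R ^ (n + 1) ↔ a ∈ J ⊔ mC ^ (n + 1))
    (g : ∀ n : ℕ, R →ₐ[k] (C ⧸ J) ⧸ mC.map (Ideal.Quotient.mk J) ^ (n + 2))
    (hg : ∀ n y, Ideal.Quotient.factor (Ideal.pow_le_pow_right (show n + 2 ≤ n + 1 + 2 by omega)) (g (n + 1) y) = g n y)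
    (h0 : ∀ a, g 0 (q a) = Ideal.Quotient.mk _ (Ideal.Quotient.mk J a))
    (h0k : ∀ y ∈ maximalIdeal R ^ 2, g 0 y = 0) :
    ∃ α : R ≃+* AdicCompletion (mC.map (Ideal.Quotient.mk J)) (C ⧸ J), ∀ n y,
      AdicCompletion.evalₐ (mC.map (Ideal.Quotient.mk J)) n (α y) =
        Ideal.Quotient.factor (Ideal.pow_le_pow_right (show n ≤ n + 2 by omega)) (g n y) := by
  let m := mC.map (Ideal.Quotient.mk J)
  let P : ∀ n : ℕ, Ideal ((C ⧸ J) ⧸ m ^ (n + 2)) := fun n => m.map (Ideal.Quotient.mk _)
  have hPi : ∀ n i, P n ^ i = (m ^ i).map (Ideal.Quotient.mk _) := fun n i => (Ideal.map_pow _ m i).symm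
  have hPpow : ∀ n i (b : C ⧸ J), Ideal.Quotient.mk (m ^ (n + 2)) b ∈ P n ^ i ↔ b ∈ m ^ i ⊔ m ^ (n + 2) :=
    fun n i b => by rw [hPi, Ideal.mem_quotient_iff_mem_sup]
  have hw : ∀ n, ∀ a ∈ mC, ((Ideal.Quotient.mk (m ^ (n + 2))).comp (Ideal.Quotient.mk J)) a ∈ P n := fun n a ha =>
    Ideal.mem_map_of_mem _ (Ideal.mem_map_of_mem _ ha)
  have hsq : ∀ n a, g n (q a) - Ideal.Quotient.mk (m ^ (n + 2)) (Ideal.Quotient.mk J a) ∈ P n ^ 2 := fun n a => by
    obtain ⟨z, hz⟩ := Ideal.Quotient.mk_surjective (g n (q a))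
    have := factor_compat g hg (Nat.zero_le n) (q a)
    rw [← hz, Ideal.Quotient.factor_mk, h0, Ideal.Quotient.eq] at this
    rw [← hz, ← map_sub, hPpow]
    exact Ideal.mem_sup_left this
  have key : ∀ n i, ∀ a ∈ mC ^ i,
      g n (q a) - Ideal.Quotient.mk (m ^ (n + 2)) (Ideal.Quotient.mk J a) ∈ P n ^ (i + 1) := by
    intro n i a ha
    rcases Nat.eq_zero_or_pos i with rfl | hi
    · exact Ideal.pow_le_pow_right (by omega) (hsq n a)
    · exact (sub_mem_pow_succ ((g n).toRingHom.comp q.toRingHom) _ (hw n) (hsq n) i hi a ha).2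
  have hmR : ∀ n, ∀ y ∈ maximalIdeal R, g n y ∈ P n := by
    intro n y hy
    obtain ⟨a, ha, hay⟩ := hlift 1 y (by rwa [pow_one])
    have h2 : g n (q a - y) ∈ P n := by
      obtain ⟨z, hz⟩ := Ideal.Quotient.mk_surjective (g n (q a - y))
      have := factor_compat g hg (Nat.zero_le n) (q a - y)
      rw [h0k _ hay, ← hz, Ideal.Quotient.factor_mk, Ideal.Quotient.eq_zero_iff_mem] at this
      rw [← hz, ← pow_one (P n), hPpow]
      exact Ideal.mem_sup_left (Ideal.pow_le_pow_right one_le_two this)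
    have h1 : g n (q a) ∈ P n := by
      have := Ideal.add_mem _ (Ideal.pow_le_self two_ne_zero (hsq n a)) (hw n a (by rwa [pow_one] at ha))
      rwa [RingHom.comp_apply, sub_add_cancel] at this
    have := Ideal.sub_mem _ h1 h2
    rwa [← map_sub, sub_sub_cancel] at this
  have hpow : ∀ n i, ∀ y ∈ maximalIdeal R ^ i, g n y ∈ P n ^ i := fun n i y hy =>
    Ideal.pow_right_mono (Ideal.map_le_iff_le_comap.mpr (hmR n)) i
      ((Ideal.map_pow (g n) (maximalIdeal R) i).le (Ideal.mem_map_of_mem _ hy))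
  have hbot : ∀ n, ∀ z ∈ P n ^ (n + 2), z = 0 := fun n z hz => by
    rw [hPi, Ideal.map_quotient_self, Ideal.mem_bot] at hz
    exact hz
  have hinj : ∀ n y, g n y = 0 → y ∈ maximalIdeal R ^ (n + 2) := by
    intro n y hy
    have : ∀ i, i ≤ n + 2 → y ∈ maximalIdeal R ^ i := by
      intro i
      induction i with
      | zero => intro _; rw [pow_zero, Ideal.one_eq_top]; trivial
      | succ i ih =>
        intro hi
        obtain ⟨a, ha, hay⟩ := hlift i y (ih (by omega))
        have h1 := Ideal.sub_mem _ (hpow n (i + 1) _ hay) (key n i a ha)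
        rw [map_sub, hy, sub_zero, sub_sub_cancel, hPpow, sup_eq_left.mpr (Ideal.pow_le_pow_right hi),
          mk_mem_pow_iff, ← hker i a ha] at h1
        have := Ideal.sub_mem _ h1 hay
        rwa [sub_sub_cancel] at this
    exact this _ le_rfl
  have hsurj : ∀ n, Function.Surjective (g n) := by
    intro n z
    have : ∀ i, ∃ y, g n y - z ∈ P n ^ i := by
      intro i
      induction i with
      | zero => exact ⟨0, by rw [pow_zero, Ideal.one_eq_top]; trivial⟩
      | succ i ih =>
        obtain ⟨y, hy⟩ := ih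
        rw [hPi, Ideal.mem_map_iff_of_surjective _ Ideal.Quotient.mk_surjective] at hy
        obtain ⟨b, hb, hby⟩ := hy
        rw [← Ideal.map_pow, Ideal.mem_map_iff_of_surjective _ Ideal.Quotient.mk_surjective] at hb
        obtain ⟨a, ha, rfl⟩ := hb
        refine ⟨y - q a, ?_⟩
        have := (Ideal.neg_mem_iff _).mpr (key n i a ha)
        rw [hby] at this
        convert this using 1
        rw [map_sub]
        ring
    obtain ⟨y, hy⟩ := this (n + 2)
    exact ⟨y, sub_eq_zero.mp (hbot n _ hy)⟩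
  let f : ∀ n, R →+* (C ⧸ J) ⧸ m ^ n := fun n =>
    (Ideal.Quotient.factor (Ideal.pow_le_pow_right (show n ≤ n + 2 by omega))).comp (g n).toRingHom
  have hf : ∀ {a b : ℕ} (h : a ≤ b), (Ideal.Quotient.factorPow m h).comp (f b) = f a := fun {a b} h => by
    refine RingHom.ext fun y => ?_
    show Ideal.Quotient.factor (Ideal.pow_le_pow_right h) (Ideal.Quotient.factor
      (Ideal.pow_le_pow_right (show b ≤ b + 2 by omega)) (g b y)) =
      Ideal.Quotient.factor (Ideal.pow_le_pow_right (show a ≤ a + 2 by omega)) (g a y)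
    rw [← factor_compat g hg h y, Ideal.Quotient.factor_comp_apply, Ideal.Quotient.factor_comp_apply]
  let α₀ : R →+* AdicCompletion m (C ⧸ J) := AdicCompletion.liftRingHom m f hf
  have hα : ∀ n y, AdicCompletion.evalₐ m n (α₀ y) = f n y := fun n y =>
    AdicCompletion.evalₐ_liftRingHom m f hf n y
  have hbij : Function.Bijective α₀ := by
    refine ⟨(injective_iff_map_eq_zero α₀).mpr fun y hy => ?_, fun z => ?_⟩
    · refine IsHausdorff.haus (I := maximalIdeal R) inferInstance y fun i => ?_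
      rw [SModEq.zero, smul_eq_mul, Ideal.mul_top]
      refine Ideal.pow_le_pow_right (show i ≤ i + 2 by omega) (hinj i y ?_)
      have := hα (i + 2) y
      rw [hy, map_zero] at this
      rw [← factor_compat g hg (show i ≤ i + 2 by omega) y]
      exact this.symm
    · choose y hy using fun n => hsurj n (AdicCompletion.evalₐ m (n + 2) z)
      obtain ⟨L, hL⟩ := IsPrecomplete.prec (I := maximalIdeal R) inferInstance (f := y) (fun {a b} hab => by
        rw [SModEq.sub_mem, smul_eq_mul, Ideal.mul_top]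
        refine Ideal.pow_le_pow_right (show a ≤ a + 2 by omega) (hinj a _ ?_)
        rw [map_sub, hy, ← factor_compat g hg hab, hy, factor_evalₐ m z (show a + 2 ≤ b + 2 by omega), sub_self])
      refine ⟨L, AdicCompletion.ext_evalₐ fun n => ?_⟩
      have h1 := hL n
      rw [SModEq.sub_mem, smul_eq_mul, Ideal.mul_top] at h1
      have h2 := hpow n n _ h1
      obtain ⟨w, hw⟩ := Ideal.Quotient.mk_surjective (g n (y n - L))
      rw [← hw, hPpow, sup_eq_left.mpr (Ideal.pow_le_pow_right (show n ≤ n + 2 by omega))] at h2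
      rw [hα, ← factor_evalₐ m z (show n ≤ n + 2 by omega), ← hy, eq_comm, ← sub_eq_zero]
      show _ - Ideal.Quotient.factor (Ideal.pow_le_pow_right (show n ≤ n + 2 by omega)) (g n L) = 0
      rw [← map_sub, ← map_sub, ← hw, Ideal.Quotient.factor_mk, Ideal.Quotient.eq_zero_iff_mem]
      exact h2
  exact ⟨RingEquiv.ofBijective α₀ hbij, hα⟩

end AlgzApproxLib
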